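import Groth.Prelude.Def_LocRes
import Mathlib.RingTheory.MvPolynomial.Basic

/-!
Residues of powers times derivatives of Laurent series.
-/

namespace Groth.Agent.LocResH7

open LaurentSeries

universe u

variable {R : Type u} [CommRing R]

theorem res_D (f : R⸨X⸩) : LocRes.res R (LocRes.D R f) = 0 := by
  rw [LocRes.res_apply, LocRes.D_coeff]
  simp

/-- Coefficientwise application of a ring homomorphism. -/
noncomputable def mapHom {S : Type u} [CommRing S] (π : R →+* S) : R⸨X⸩ →+* S⸨X⸩ where
  toFun x := x.map π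
  map_one' := by
    ext m
    simp [HahnSeries.map_coeff, HahnSeries.coeff_one, apply_ite π]
  map_mul' x y := HahnSeries.map_mul (π : R →ₙ+* S)
  map_zero' := by
    ext m
    simp
  map_add' x y := by
    ext m
    simp

theorem mapHom_coeff {S : Type u} [CommRing S] (π : R →+* S) (x : R⸨X⸩) (m : ℤ) :
    (mapHom π x).coeff m = π (x.coeff m) := rfl

theorem mapHom_D {S : Type u} [CommRing S] (π : R →+* S) (x : R⸨X⸩) :
    mapHom π (LocRes.D R x) = LocRes.D S (mapHom π x) := by
  ext m
  rw [mapHom_coeff, LocRes.D_coeff, LocRes.D_coeff, mapHom_coeff, map_zsmul]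

theorem res_pow_mul_D_of_charZero [IsDomain R] [CharZero R] (u : R⸨X⸩) (n : ℕ) :
    LocRes.res R (u ^ n * LocRes.D R u) = 0 := by
  have h := congrArg (LocRes.res R) ((LocRes.D R).leibniz_pow (a := u) (n + 1))
  rw [res_D, Nat.add_sub_cancel, map_nsmul, smul_eq_mul, nsmul_eq_mul, zero_eq_mul] at h
  exact h.resolve_left (Nat.cast_ne_zero.2 n.succ_ne_zero)

/-- The residue of `u ^ n du` vanishes in any characteristic. -/
theorem res_pow_mul_D (u : R⸨X⸩) (n : ℕ) : LocRes.res R (u ^ n * LocRes.D R u) = 0 := by
  classical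
  let π : MvPolynomial R ℤ →+* R := MvPolynomial.eval₂Hom (Int.castRingHom R) id
  let U : (MvPolynomial R ℤ)⸨X⸩ :=
    { coeff := fun m => if u.coeff m = 0 then 0 else MvPolynomial.X (u.coeff m)
      isPWO_support' := u.isPWO_support.mono fun m hm => by
        simp only [Function.mem_support, ne_eq, ite_eq_left_iff, not_forall] at hm
        exact hm.1 }
  have hU : mapHom π U = u := by
    ext m
    rw [mapHom_coeff]
    by_cases h : u.coeff m = 0
    · simp [U, h]
    · simp [U, π, h]
  rw [← hU, ← mapHom_D, ← map_pow, ← map_mul, LocRes.res_apply, mapHom_coeff]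
  have := res_pow_mul_D_of_charZero U n
  rw [LocRes.res_apply] at this
  rw [this, map_zero]

end Groth.Agent.LocResH7
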